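import Mathlib

set_option autoImplicit false

/-! An endomorphism `D` of an abelian group with `D ^ p = 1`, `p ≥ 5`, `(D - 1) ^ 2 ≡ 0 (mod p)`, in a group whose
elements of order `p` are `p`-th multiples, satisfies `D ≡ 1 (mod p)`. -/

namespace Cfsg.Agent.Lib.Helper16.Ess

theorem binom_add {A : Type*} [AddCommGroup A] {p : ℕ} (hp : p.Prime) (h5 : 5 ≤ p) (D : A →+ A)
    (hD : ∀ x, (D^[p]) x = x) (h2 : ∀ x, ∃ y, D (D x - x) - (D x - x) = p • y)
    (h1 : ∀ x : A, p • x = 0 → ∃ y, x = p • y) : ∀ x, ∃ y, D x - x = p • y := by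
  let d : AddMonoid.End A := D
  let n : AddMonoid.End A := d - 1
  have hn : ∀ x, n x = D x - x := fun x => rfl
  have hd : d = n + 1 := by simp [n]
  have hdp : d ^ p = 1 := by
    ext x
    rw [AddMonoid.End.coe_pow]
    exact hD x
  have hn2 : ∀ x, ∃ y, n (n x) = p • y := by
    intro x
    obtain ⟨y, hy⟩ := h2 x
    exact ⟨y, hy⟩
  -- `n ^ (m + 2) x` is a multiple of `p`
  have hpow2 : ∀ (m : ℕ) (x : A), ∃ y, (n ^ (m + 2)) x = p • y := by
    intro m x
    obtain ⟨y, hy⟩ := hn2 ((n ^ m) x)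
    refine ⟨y, ?_⟩
    rw [← hy, add_comm, pow_add, sq]
    rfl
  have hpow4 : ∀ (m : ℕ) (x : A), ∃ y, (n ^ (m + 4)) x = (p ^ 2) • y := by
    intro m x
    obtain ⟨y, hy⟩ := hpow2 m x
    obtain ⟨z, hz⟩ := hn2 y
    refine ⟨z, ?_⟩
    have e : (n ^ (m + 4)) x = n (n ((n ^ (m + 2)) x)) := by
      have : m + 4 = 2 + (m + 2) := by ring
      rw [this, pow_add, sq]
      rfl
    rw [e, hy, map_nsmul, map_nsmul, hz, sq, mul_smul]
  obtain ⟨q, rfl⟩ : ∃ q, p = q + 2 := ⟨p - 2, by omega⟩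
  intro x
  have hexp := (Commute.one_right n).add_pow (q + 2)
  rw [← hd, hdp] at hexp
  have hx := congrArg (fun f : AddMonoid.End A => f x) hexp
  simp only [one_pow, mul_one] at hx
  rw [Finset.sum_range_succ', Finset.sum_range_succ'] at hx
  have key : ∃ y, (∑ m ∈ Finset.range (q + 1), n ^ (m + 1 + 1) * (((q + 2).choose (m + 1 + 1) : ℕ) :
      AddMonoid.End A)) x = ((q + 2) ^ 2) • y := by
    have hterm : ∀ m ∈ Finset.range (q + 1), ∃ y, (n ^ (m + 1 + 1) * (((q + 2).choose (m + 1 + 1) : ℕ) :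
        AddMonoid.End A)) x = ((q + 2) ^ 2) • y := by
      intro m hm
      rw [Finset.mem_range] at hm
      have e : (n ^ (m + 1 + 1) * (((q + 2).choose (m + 1 + 1) : ℕ) : AddMonoid.End A)) x
          = ((q + 2).choose (m + 1 + 1)) • (n ^ (m + 2)) x := by
        show (n ^ (m + 1 + 1)) ((((q + 2).choose (m + 1 + 1) : ℕ) : AddMonoid.End A) x) = _
        rw [AddMonoid.End.natCast_apply, map_nsmul]
      rw [e]
      by_cases hmq : m = q
      · subst hmq
        rw [Nat.choose_self, one_smul]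
        obtain ⟨r, rfl⟩ : ∃ r, m = r + 2 := ⟨m - 2, by omega⟩
        exact hpow4 r x
      · obtain ⟨c, hc⟩ := hp.dvd_choose_self (k := m + 1 + 1) (by omega) (by omega)
        obtain ⟨y, hy⟩ := hpow2 m x
        refine ⟨c • y, ?_⟩
        rw [hc, hy, smul_smul, smul_smul]
        congr 1
        ring
    choose! f hf using hterm
    refine ⟨∑ m ∈ Finset.range (q + 1), f m, ?_⟩
    let ev : AddMonoid.End A →+ A :=
      { toFun := fun g => g x
        map_zero' := rfl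
        map_add' := fun _ _ => rfl }
    show ev _ = _
    rw [Finset.smul_sum, map_sum]
    exact Finset.sum_congr rfl hf
  obtain ⟨y, hy⟩ := key
  have hx' : x = ((q + 2) ^ 2) • y + (q + 2) • n x + x := by
    have e1 : (n ^ (0 + 1) * (((q + 2).choose (0 + 1) : ℕ) : AddMonoid.End A)) x = (q + 2) • n x := by
      show (n ^ (0 + 1)) ((((q + 2).choose (0 + 1) : ℕ) : AddMonoid.End A) x) = _
      rw [AddMonoid.End.natCast_apply, map_nsmul]
      simp
    have e0 : (n ^ 0 * (((q + 2).choose 0 : ℕ) : AddMonoid.End A)) x = x := by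
      simp
    have hx2 : (1 : AddMonoid.End A) x = (∑ m ∈ Finset.range (q + 1), n ^ (m + 1 + 1) *
        (((q + 2).choose (m + 1 + 1) : ℕ) : AddMonoid.End A)) x
        + (n ^ (0 + 1) * (((q + 2).choose (0 + 1) : ℕ) : AddMonoid.End A)) x
        + (n ^ 0 * (((q + 2).choose 0 : ℕ) : AddMonoid.End A)) x := hx
    rw [hy, e1, e0] at hx2
    exact hx2
  have h3 : (q + 2) • (n x + (q + 2) • y) = 0 := by
    have h4 : ((q + 2) ^ 2) • y + (q + 2) • n x = 0 := by
      have := hx'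
      nth_rewrite 1 [← zero_add x] at this
      exact (add_right_cancel this).symm
    rw [smul_add, smul_smul, ← sq, add_comm]
    exact h4
  obtain ⟨z, hz⟩ := h1 _ h3
  refine ⟨z - y, ?_⟩
  rw [← hn, smul_sub, ← hz]
  abel

theorem binom_mul {P : Type*} [CommGroup P] {p : ℕ} (hp : p.Prime) (h5 : 5 ≤ p) (δ : P →* P)
    (hδ : ∀ x, (δ^[p]) x = x) (h2 : ∀ x, ∃ y, δ (δ x / x) / (δ x / x) = y ^ p)
    (h1 : ∀ x : P, x ^ p = 1 → ∃ y, x = y ^ p) : ∀ x, ∃ y, δ x / x = y ^ p :=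
  binom_add (A := Additive P) hp h5 (MonoidHom.toAdditive δ) hδ h2 h1

end Cfsg.Agent.Lib.Helper16.Ess
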