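import Cfsg.Agent.Lib.Helper16.Ess.Alpha
import Cfsg.Agent.Lib.Helper16.AI.Lcs
import Cfsg.Agent.Lib.Helper58.PGroup

set_option autoImplicit false
set_option linter.unusedSectionVars false

/-! Essential subgroups `E` on which a subgroup `Q ≥ E` of `S` acts with `[E, Q]` of order `p`;
`p`-groups with an extraspecial subgroup of index `p`. -/

namespace Cfsg.Agent.Lib.Helper16.Ess

open Cfsg Cfsg.FusionSystem Cfsg.Agent.Lib Cfsg.Agent.Lib.Helper86 Cfsg.Agent.Lib.Helper86.Oliver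
open Cfsg.Agent.Lib.Helper16.CenterIndex Cfsg.Agent.Lib.Helper16.AI
open scoped commutatorElement

variable {Ω : Type*} [Group Ω] {S : Subgroup Ω}

/-- The non-abelian case: `Q` stabilizes the chain `1 ≤ E' ≤ E`. -/
theorem le_of_nonabelian [Finite S] {p : ℕ} [Fact p.Prime] (hS : IsPGroup p S)
    (F : FusionSystem S) (hF : F.IsSaturated p) {E : Subgroup Ω} (hE : F.IsEssential p E)
    (hna : ∃ a ∈ E, ∃ b ∈ E, a * b ≠ b * a) {Z Q : Subgroup Ω} (hZc : Nat.card Z = p)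
    (hEQ : E ≤ Q) (hQS : Q ≤ S) (hZQ : ∀ g ∈ Q, ∀ z ∈ Z, g * z = z * g)
    (hcomm : ∀ g ∈ Q, ∀ e ∈ E, g * e * g⁻¹ * e⁻¹ ∈ Z) : Q ≤ E := by
  have hES : E ≤ S := hE.1.1
  have : Finite E := CenterIndex.finite_of_le hES
  obtain ⟨a, ha, b, hb, hne⟩ := hna
  have hc : a * b * a⁻¹ * b⁻¹ ∈ Z := hcomm a (hEQ ha) b hb
  have hc1 : a * b * a⁻¹ * b⁻¹ ≠ 1 := by
    intro h
    apply hne
    calc a * b = (a * b * a⁻¹ * b⁻¹) * (b * a) := by group
      _ = b * a := by rw [h, one_mul]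
  have hcE : a * b * a⁻¹ * b⁻¹ ∈ E := E.mul_mem (E.mul_mem (E.mul_mem ha hb) (E.inv_mem ha)) (E.inv_mem hb)
  have hZE : Z ≤ E := by
    intro y hy
    obtain ⟨m, rfl⟩ := exists_pow_eq hZc hc hc1 hy
    exact E.pow_mem hcE m
  have hQN : ∀ g ∈ Q, g ∈ Subgroup.normalizer (E : Set Ω) := by
    intro g hg
    refine mem_normalizer_of_forall_conj_mem (fun y hy => ?_)
    have h1 := E.mul_mem (hZE (hcomm g hg y hy)) hy
    have e : g * y * g⁻¹ * y⁻¹ * y = g * y * g⁻¹ := by group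
    rwa [e] at h1
  have hle : commutator ↥E ≤ Z.subgroupOf E := by
    rw [commutator_def, Subgroup.commutator_le]
    intro x _ y _
    exact hcomm x (hEQ x.2) y y.2
  have hge : ∀ y : E, (y : Ω) ∈ Z → y ∈ commutator ↥E := by
    intro y hy
    obtain ⟨m, hm⟩ := exists_pow_eq hZc hc hc1 hy
    have e : y = ⁅(⟨a, ha⟩ : E), ⟨b, hb⟩⁆ ^ m := Subtype.ext hm.symm
    rw [e]
    exact Subgroup.pow_mem _ (Subgroup.commutator_mem_commutator (Subgroup.mem_top _)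
      (Subgroup.mem_top _)) m
  intro g hg
  let X : ℕ → Subgroup E := fun i => match i with
    | 0 => ⊥
    | 1 => commutator ↥E
    | _ => ⊤
  refine mem_of_stabilizes_chain hS F hF hE 2 X rfl rfl ?_ (hQS hg) (hQN g hg) ?_
  · intro i α _ x hx
    match i with
    | 0 =>
      have : x = 1 := hx
      rw [this, map_one]; exact Subgroup.one_mem _
    | 1 =>
      have hx' : x ∈ commutator ↥E := hx
      show α x ∈ commutator ↥E
      have hch : (commutator ↥E).Characteristic := by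
        rw [commutator_def]; infer_instance
      have := (Subgroup.characteristic_iff_map_le.1 hch) α
      exact this ⟨x, hx', rfl⟩
    | (n + 2) => exact Subgroup.mem_top _
  · intro i hi x hx
    match i, hi with
    | 0, _ =>
      have hx' : (x : Ω) ∈ Z := hle hx
      show x⁻¹ * conjAut E g (hQN g hg) x = 1
      apply Subtype.ext
      show (x : Ω)⁻¹ * (g * x * g⁻¹) = 1
      rw [hZQ g hg _ hx']
      group
    | 1, _ =>
      apply hge
      show (x : Ω)⁻¹ * (g * x * g⁻¹) ∈ Z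
      have h1 := Z.inv_mem (hcomm g hg _ (E.inv_mem x.2))
      have e : (g * (x : Ω)⁻¹ * g⁻¹ * (x : Ω)⁻¹⁻¹)⁻¹ = (x : Ω)⁻¹ * (g * x * g⁻¹) := by group
      rwa [e] at h1

/-- A non-abelian `p`-group `Q` with an abelian subgroup `E`, `|Q| ≤ p |E|`, `[E, Q]` of order at most `p`:
the centre has index `p ^ 2`. -/
theorem card_eq_of_abelian {p : ℕ} [hp : Fact p.Prime] {Q E D : Subgroup Ω} [Finite Q] (hQ : IsPGroup p Q)
    (hEQ : E ≤ Q) (hab : ∀ a ∈ E, ∀ b ∈ E, a * b = b * a) (hna : ∃ x ∈ Q, ∃ y ∈ Q, x * y ≠ y * x)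
    (hle : Nat.card Q ≤ p * Nat.card E) (hDc : Nat.card D = p)
    (hcomm : ∀ g ∈ Q, ∀ e ∈ E, g * e * g⁻¹ * e⁻¹ ∈ D) : Nat.card Q = p ^ 2 * Nat.card (ZS Q) := by
  have hfE : Finite E := CenterIndex.finite_of_le hEQ
  have h1 := Subgroup.card_mul_index (E.subgroupOf Q)
  rw [Nat.card_congr (Subgroup.subgroupOfEquivOfLe hEQ).toEquiv] at h1
  have hEpos : 0 < Nat.card E := Nat.card_pos
  have hidx : (E.subgroupOf Q).index = p := by
    obtain ⟨k, hk⟩ := hQ.index (E.subgroupOf Q)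
    have h2 : (E.subgroupOf Q).index ≤ p := by
      rw [← h1, mul_comm] at hle
      exact Nat.le_of_mul_le_mul_right hle hEpos
    have h3 : (E.subgroupOf Q).index ≠ 1 := by
      intro h
      rw [Subgroup.index_eq_one, Subgroup.subgroupOf_eq_top] at h
      obtain ⟨x, hx, y, hy, hne⟩ := hna
      exact hne (hab x (h hx) y (h hy))
    rw [hk] at h2 h3 ⊢
    rcases k with _ | _ | k
    · simp at h3
    · simp
    · exfalso
      have : p ^ 1 < p ^ (k + 1 + 1) := Nat.pow_lt_pow_right hp.out.one_lt (by omega)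
      rw [pow_one] at this
      omega
  have X : AData p Q E := ⟨hQ, hEQ, hab, hidx, hna⟩
  obtain ⟨x, hx, hxE⟩ := SetLike.not_le_iff_exists.1 (not_le_of_gt X.lt)
  have h2 := Subgroup.card_mul_index (psi X x hx).ker
  rw [card_ker_psi X hx hxE, Subgroup.index_ker] at h2
  have h3 : Nat.card (psi X x hx).range ∣ p := by
    have h5 : Nat.card ((psi X x hx).range.map E.subtype) ∣ Nat.card D := by
      apply Subgroup.card_dvd_of_le
      rintro _ ⟨_, ⟨a, rfl⟩, rfl⟩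
      show (a : Ω) * x * (a : Ω)⁻¹ * x⁻¹ ∈ D
      have h4 := D.inv_mem (hcomm x hx a a.2)
      have e : (x * (a : Ω) * x⁻¹ * (a : Ω)⁻¹)⁻¹ = (a : Ω) * x * (a : Ω)⁻¹ * x⁻¹ := by group
      rwa [e] at h4
    rwa [Subgroup.card_map_of_injective E.subtype_injective, hDc] at h5
  rcases (Nat.dvd_prime hp.out).1 h3 with h4 | h4
  · exfalso
    have h5 : ∀ a ∈ E, a ∈ ZS Q := by
      intro a ha
      apply X.mem_ZS hx hxE ha
      have h6 : psi X x hx ⟨a, ha⟩ = 1 := by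
        have h7 : (psi X x hx).range = ⊥ := Subgroup.card_eq_one.1 h4
        have h8 : psi X x hx ⟨a, ha⟩ ∈ (psi X x hx).range := ⟨_, rfl⟩
        rw [h7] at h8
        exact h8
      have h9 : a * x * a⁻¹ * x⁻¹ = 1 := congrArg Subtype.val h6
      calc a * x = (a * x * a⁻¹ * x⁻¹) * (x * a) := by group
        _ = x * a := by rw [h9, one_mul]
    obtain ⟨u, hu, v, hv, hne⟩ := hna
    apply hne
    obtain ⟨a, ha, i, rfl⟩ := X.decomp hx hxE hu
    obtain ⟨b, hb, j, rfl⟩ := X.decomp hx hxE hv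
    have hxi : x ^ i ∈ Q := Q.pow_mem hx i
    have hxj : x ^ j ∈ Q := Q.pow_mem hx j
    calc a * x ^ i * (b * x ^ j) = a * (x ^ i * b) * x ^ j := by group
      _ = a * (b * x ^ i) * x ^ j := by rw [ZS_comm (h5 b hb) hxi]
      _ = (a * b) * (x ^ i * x ^ j) := by group
      _ = (b * a) * (x ^ j * x ^ i) := by rw [hab a ha b hb, ← pow_add, ← pow_add, add_comm]
      _ = b * (a * x ^ j) * x ^ i := by group
      _ = b * (x ^ j * a) * x ^ i := by rw [ZS_comm (h5 a ha) hxj]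
      _ = b * x ^ j * (a * x ^ i) := by group
  · rw [h4] at h2
    rw [← h1, hidx, ← h2]
    ring

/-- `Q` is a subgroup of index `p` of the `p`-group `S` with centre of order `p` containing `Q'`, `Q` not abelian. -/
structure XData (p : ℕ) (S Q : Subgroup Ω) : Prop where
  hS : IsPGroup p S
  hQS : Q ≤ S
  hZc : Nat.card (ZS Q) = p
  hcomm : ∀ x ∈ Q, ∀ y ∈ Q, x * y * x⁻¹ * y⁻¹ ∈ ZS Q
  hidx : (Q.subgroupOf S).index = p
  hna : ∃ x ∈ Q, ∃ y ∈ Q, x * y ≠ y * x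

variable [Finite S] {p : ℕ} [hp : Fact p.Prime] {Q : Subgroup Ω}

theorem XData.of (hS : IsPGroup p S) (hQS : Q ≤ S) (hQ : Cfsg.IsExtraspecial p ↥Q)
    (hQi : (Q.subgroupOf S).index = p) : XData p S Q := by
  have hfQ : Finite Q := CenterIndex.finite_of_le hQS
  have hZc : Nat.card (ZS Q) = p := by rw [← card_center]; exact hQ.2
  have hcomm : ∀ x ∈ Q, ∀ y ∈ Q, x * y * x⁻¹ * y⁻¹ ∈ ZS Q := by
    intro x hx y hy
    have h1 : ⁅(⟨x, hx⟩ : Q), ⟨y, hy⟩⁆ ∈ commutator ↥Q :=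
      Subgroup.commutator_mem_commutator (Subgroup.mem_top _) (Subgroup.mem_top _)
    rw [hQ.1.2.2] at h1
    rw [← map_center]
    exact ⟨_, h1, rfl⟩
  refine ⟨hS, hQS, hZc, hcomm, hQi, ?_⟩
  by_contra hcon
  push Not at hcon
  have h1 : commutator ↥Q = ⊥ := by
    rw [eq_bot_iff, commutator_def, Subgroup.commutator_le]
    intro x _ y _
    rw [Subgroup.mem_bot, commutatorElement_eq_one_iff_mul_comm]
    exact Subtype.ext (hcon x x.2 y y.2)
  have h2 := hQ.2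
  rw [← hQ.1.2.2, h1, Subgroup.card_bot] at h2
  exact hp.out.one_lt.ne h2

theorem XData.normal (X : XData p S Q) : (Q.subgroupOf S).Normal := by
  apply Subgroup.normal_of_index_eq_minFac_card
  rw [X.hidx]
  obtain ⟨n, hn⟩ := X.hS.exists_card_eq
  have hn0 : n ≠ 0 := by
    rintro rfl
    rw [pow_zero] at hn
    have h1 := Subgroup.index_dvd_card (Q.subgroupOf S)
    rw [hn, X.hidx] at h1
    exact hp.out.one_lt.ne' (Nat.dvd_one.1 h1)
  rw [hn, hp.out.pow_minFac hn0]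

theorem XData.conj_mem (X : XData p S Q) {s a : Ω} (hs : s ∈ S) (ha : a ∈ Q) : s * a * s⁻¹ ∈ Q := by
  have := X.normal
  have h1 : (⟨a, X.hQS ha⟩ : S) ∈ Q.subgroupOf S := Subgroup.mem_subgroupOf.2 ha
  have h2 := this.conj_mem _ h1 ⟨s, hs⟩
  exact Subgroup.mem_subgroupOf.1 h2

theorem XData.decomp (X : XData p S Q) {x s : Ω} (hx : x ∈ S) (hxA : x ∉ Q) (hs : s ∈ S) :
    ∃ a ∈ Q, ∃ i : ℕ, s = a * x ^ i := by
  have := X.normal
  have hq : Nat.card (↥S ⧸ Q.subgroupOf S) = p := by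
    rw [← Subgroup.index_eq_card, X.hidx]
  have hx1 : (QuotientGroup.mk (⟨x, hx⟩ : S) : ↥S ⧸ Q.subgroupOf S) ≠ 1 := by
    intro h
    rw [QuotientGroup.eq_one_iff] at h
    exact hxA (Subgroup.mem_subgroupOf.1 h)
  obtain ⟨i, hi⟩ := mem_powers_of_prime_card hq hx1
    (g' := (QuotientGroup.mk (⟨s, hs⟩ : S) : ↥S ⧸ Q.subgroupOf S))
  have h2 : (QuotientGroup.mk ((⟨s, hs⟩ : S) * ((⟨x, hx⟩ : S) ^ i)⁻¹) : ↥S ⧸ Q.subgroupOf S) = 1 := by
    rw [QuotientGroup.mk_mul, QuotientGroup.mk_inv, QuotientGroup.mk_pow]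
    change _ ^ i = _ at hi
    rw [hi, mul_inv_cancel]
  rw [QuotientGroup.eq_one_iff] at h2
  refine ⟨s * (x ^ i)⁻¹, Subgroup.mem_subgroupOf.1 h2, i, by group⟩

theorem XData.card_S (X : XData p S Q) : Nat.card S = p * Nat.card Q := by
  have h1 := Subgroup.card_mul_index (Q.subgroupOf S)
  rw [Nat.card_congr (Subgroup.subgroupOfEquivOfLe X.hQS).toEquiv, X.hidx] at h1
  rw [← h1, mul_comm]

/-- The centre of `Q` is central in `S`. -/
theorem XData.ZQ_le (X : XData p S Q) : ZS Q ≤ ZS S := by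
  have hn : ((ZS Q).subgroupOf S).Normal := by
    constructor
    intro z hz s
    have hz' : (z : Ω) ∈ ZS Q := hz
    show (s : Ω) * z * (s : Ω)⁻¹ ∈ ZS Q
    refine mem_ZS.2 ⟨X.conj_mem s.2 (ZS_le hz'), fun q hq => ?_⟩
    have h1 : (s : Ω)⁻¹ * q * (s : Ω)⁻¹⁻¹ ∈ Q := X.conj_mem (S.inv_mem s.2) hq
    have h2 := ZS_comm hz' h1
    calc q * ((s : Ω) * z * (s : Ω)⁻¹) = s * (((s : Ω)⁻¹ * q * (s : Ω)⁻¹⁻¹) * z) * (s : Ω)⁻¹ := by group
      _ = s * (z * ((s : Ω)⁻¹ * q * (s : Ω)⁻¹⁻¹)) * (s : Ω)⁻¹ := by rw [h2]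
      _ = (s : Ω) * z * (s : Ω)⁻¹ * q := by group
  have hle : ZS Q ≤ S := ZS_le.trans X.hQS
  have hne : (ZS Q).subgroupOf S ≠ ⊥ := by
    intro h
    have h1 := X.hZc
    rw [← Nat.card_congr (Subgroup.subgroupOfEquivOfLe hle).toEquiv, h, Subgroup.card_bot] at h1
    exact hp.out.one_lt.ne h1
  have h1 := Helper58.normal_inf_center_ne_bot X.hS ((ZS Q).subgroupOf S) hne
  obtain ⟨⟨b, hb⟩, hb1⟩ := (Subgroup.ne_bot_iff_exists_ne_one).1 h1
  have hbZ : (b : Ω) ∈ ZS Q := hb.1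
  have hbC : (b : Ω) ∈ ZS S := by
    rw [← map_center]
    exact ⟨b, hb.2, rfl⟩
  have hb1' : (b : Ω) ≠ 1 := by
    intro h
    apply hb1
    apply Subtype.ext
    apply Subtype.ext
    exact h
  intro y hy
  obtain ⟨m, rfl⟩ := exists_pow_eq X.hZc hbZ hb1' hy
  exact (ZS S).pow_mem hbC m

end Cfsg.Agent.Lib.Helper16.Ess
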