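import Cfsg.Agent.Lib.Helper16.Ess.Cube
import Cfsg.Agent.Lib.Helper3.Frattini

set_option autoImplicit false
set_option linter.unusedSectionVars false

/-! Finite abelian `p`-groups with Frattini quotient of order at most `p ^ 2`. -/

namespace Cfsg.Agent.Lib.Helper16.Ess

open Cfsg Cfsg.Agent.Lib
open scoped commutatorElement

theorem mem_of_pow_mem_coprime {G : Type*} [Group G] (K : Subgroup G) {g : G} {m n : ℕ}
    (h1 : g ^ m ∈ K) (h2 : g ^ n ∈ K) (hc : Nat.Coprime m n) : g ∈ K := by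
  have h3 := Nat.gcd_eq_gcd_ab m n
  rw [hc.gcd_eq_one] at h3
  have e : g = (g ^ m) ^ (Nat.gcdA m n) * (g ^ n) ^ (Nat.gcdB m n) := by
    rw [← zpow_natCast, ← zpow_natCast, ← zpow_mul, ← zpow_mul, ← zpow_add, ← h3]
    simp
  rw [e]
  exact K.mul_mem (K.zpow_mem h1 _) (K.zpow_mem h2 _)

variable {P : Type*} [CommGroup P] [Finite P] {p : ℕ} [hp : Fact p.Prime]

theorem frattini_eq_range (hP : IsPGroup p P) : frattini P = (powMonoidHom p : P →* P).range := by
  apply le_antisymm
  · apply Helper3.frattini_le_of_elementary_quotient hp.out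
    · rw [commutator_def, Subgroup.commutator_le]
      intro x _ y _
      rw [commutatorElement_eq_one_iff_mul_comm.2 (mul_comm x y)]
      exact Subgroup.one_mem _
    · intro x
      exact ⟨x, rfl⟩
  · rintro _ ⟨x, rfl⟩
    exact Helper3.pow_p_mem_frattini hP x

/-- A subgroup chain `A < B < C` inside a `p`-group with `|P| = p ^ 2 |A|` ends at the top. -/
theorem eq_top_of_chain (hP : IsPGroup p P) {A B C : Subgroup P} (hAB : A < B) (hBC : B < C)
    (hcard : Nat.card P = p ^ 2 * Nat.card A) : C = ⊤ := by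
  obtain ⟨a, ha⟩ := (hP.to_subgroup A).exists_card_eq
  obtain ⟨b, hb⟩ := (hP.to_subgroup B).exists_card_eq
  obtain ⟨c, hc⟩ := (hP.to_subgroup C).exists_card_eq
  have h1 : Nat.card A < Nat.card B := Helper86.card_lt_of_lt hAB
  have h2 : Nat.card B < Nat.card C := Helper86.card_lt_of_lt hBC
  rw [ha, hb] at h1
  rw [hb, hc] at h2
  have h3 := (Nat.pow_lt_pow_iff_right hp.out.one_lt).1 h1
  have h4 := (Nat.pow_lt_pow_iff_right hp.out.one_lt).1 h2
  apply Subgroup.eq_top_of_le_card
  rw [hcard, ha, hc, ← pow_add]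
  exact Nat.pow_le_pow_right hp.out.pos (by omega)

/-- The homocyclic case. -/
theorem homocyclic_iso (hP : IsPGroup p P) (hcard : Nat.card P = p ^ 2 * Nat.card (frattini P)) (b : ℕ)
    (hexp : ∀ x : P, x ^ (p ^ (b + 1)) = 1)
    (hker : ∀ x : P, x ^ (p ^ b) = 1 → x ∈ frattini P) :
    Nonempty (P ≃* Multiplicative (ZMod (p ^ (b + 1)) × ZMod (p ^ (b + 1)))) := by
  have hp1 := hp.out.one_lt
  have hΦpos : 0 < Nat.card (frattini P) := Nat.card_pos
  have hpw : ∀ x : P, x ^ p ∈ frattini P := fun x => Helper3.pow_p_mem_frattini hP x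
  have hΦtop : frattini P ≠ ⊤ := by
    intro h
    rw [h, Subgroup.card_top] at hcard
    have h1 : 0 < Nat.card P := Nat.card_pos
    have h2 : 1 < p ^ 2 := Nat.one_lt_pow (by norm_num) hp1
    nlinarith
  obtain ⟨x, hx⟩ : ∃ x : P, x ∉ frattini P := by
    by_contra hcon
    push Not at hcon
    exact hΦtop (eq_top_iff.2 (fun x _ => hcon x))
  set L : Subgroup P := frattini P ⊔ Subgroup.zpowers x with hL
  have hxL : x ∈ L := (le_sup_right : Subgroup.zpowers x ≤ L) (Subgroup.mem_zpowers x)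
  have hΦL : frattini P < L := lt_of_le_of_ne le_sup_left (fun h => hx (h ▸ hxL))
  have hLtop : L ≠ ⊤ := by
    intro h
    have h1 : Subgroup.zpowers x = ⊤ := frattini_nongenerating (by rw [sup_comm]; exact h)
    have h2 : orderOf x = Nat.card P := by
      rw [← Nat.card_zpowers, h1, Subgroup.card_top]
    have h3 : p ∣ orderOf x := by
      rw [h2, hcard]
      exact Dvd.dvd.mul_right (dvd_pow_self p (by norm_num)) _
    have h4 : orderOf (x ^ p) = orderOf x / p := orderOf_pow_of_dvd hp.out.ne_zero h3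
    have h5 : Nat.card (Subgroup.zpowers (x ^ p)) ≤ Nat.card (frattini P) :=
      Subgroup.card_le_of_le (Subgroup.zpowers_le.2 (hpw x))
    rw [Nat.card_zpowers, h4, h2, hcard] at h5
    have e : p ^ 2 * Nat.card (frattini P) / p = p * Nat.card (frattini P) := by
      rw [sq, mul_assoc, Nat.mul_div_cancel_left _ hp.out.pos]
    rw [e] at h5
    nlinarith
  obtain ⟨y, hy⟩ : ∃ y : P, y ∉ L := by
    by_contra hcon
    push Not at hcon
    exact hLtop (eq_top_iff.2 (fun x _ => hcon x))
  have hindep : ∀ i j : ℕ, x ^ i * y ^ j ∈ frattini P → p ∣ i ∧ p ∣ j := by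
    intro i j h
    have hj : p ∣ j := by
      by_contra hj
      apply hy
      have h1 : y ^ j ∈ L := by
        have e : y ^ j = (x ^ i)⁻¹ * (x ^ i * y ^ j) := by group
        rw [e]
        exact L.mul_mem (L.inv_mem (L.pow_mem hxL i)) (hΦL.le h)
      exact mem_of_pow_mem_coprime L h1 (hΦL.le (hpw y))
        ((Nat.coprime_comm.1 ((Nat.Prime.coprime_iff_not_dvd hp.out).2 hj)))
    refine ⟨?_, hj⟩
    obtain ⟨t, rfl⟩ := hj
    have h1 : x ^ i ∈ frattini P := by
      have e : x ^ i = (x ^ i * y ^ (p * t)) * ((y ^ p) ^ t)⁻¹ := by rw [← pow_mul]; group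
      rw [e]
      exact (frattini P).mul_mem h ((frattini P).inv_mem ((frattini P).pow_mem (hpw y) t))
    by_contra hi
    exact hx (mem_of_pow_mem_coprime _ h1 (hpw x)
      ((Nat.coprime_comm.1 ((Nat.Prime.coprime_iff_not_dvd hp.out).2 hi))))
  have key : ∀ s ≤ b + 1, ∀ i j : ℕ, x ^ i * y ^ j = 1 → p ^ s ∣ i ∧ p ^ s ∣ j := by
    intro s
    induction s with
    | zero => intro _ i j _; simp
    | succ s ih =>
      intro hs i j hij
      obtain ⟨⟨i', rfl⟩, ⟨j', rfl⟩⟩ := ih (by omega) i j hij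
      have h1 : (x ^ i' * y ^ j') ^ (p ^ s) = 1 := by
        rw [mul_pow, ← pow_mul, ← pow_mul, mul_comm i', mul_comm j']
        exact hij
      have h2 : (x ^ i' * y ^ j') ^ (p ^ b) = 1 := by
        obtain ⟨r, rfl⟩ : ∃ r, b = s + r := ⟨b - s, by omega⟩
        rw [pow_add, pow_mul, h1, one_pow]
      obtain ⟨⟨i'', rfl⟩, ⟨j'', rfl⟩⟩ := hindep i' j' (hker _ h2)
      exact ⟨⟨i'', by rw [pow_succ]; ring⟩, ⟨j'', by rw [pow_succ]; ring⟩⟩
  set N : ℕ := p ^ (b + 1) with hN
  have hN0 : NeZero N := ⟨(pow_pos hp.out.pos _).ne'⟩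
  let F : Multiplicative (ZMod N × ZMod N) →* P :=
    { toFun := fun v => Helper59.zE x N (hexp x) (Multiplicative.toAdd v).1 *
        Helper59.zE y N (hexp y) (Multiplicative.toAdd v).2
      map_one' := by
        simp [Helper59.zE_zero]
      map_mul' := by
        intro u v
        simp only [toAdd_mul, Prod.fst_add, Prod.snd_add, Helper59.zE_add]
        exact mul_mul_mul_comm _ _ _ _ }
  have hFinj : Function.Injective F := by
    rw [injective_iff_map_eq_one]
    intro v hv
    have h1 : Helper59.zE x N (hexp x) (Multiplicative.toAdd v).1 *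
        Helper59.zE y N (hexp y) (Multiplicative.toAdd v).2 = 1 := hv
    rw [← ZMod.natCast_zmod_val (Multiplicative.toAdd v).1,
      ← ZMod.natCast_zmod_val (Multiplicative.toAdd v).2, Helper59.zE_natCast,
      Helper59.zE_natCast] at h1
    obtain ⟨h2, h3⟩ := key (b + 1) le_rfl _ _ h1
    have e1 : (Multiplicative.toAdd v).1 = 0 := by
      rw [← ZMod.natCast_zmod_val (Multiplicative.toAdd v).1]
      exact (ZMod.natCast_eq_zero_iff _ _).2 h2
    have e2 : (Multiplicative.toAdd v).2 = 0 := by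
      rw [← ZMod.natCast_zmod_val (Multiplicative.toAdd v).2]
      exact (ZMod.natCast_eq_zero_iff _ _).2 h3
    have : Multiplicative.toAdd v = 0 := Prod.ext e1 e2
    exact this
  have hFsurj : Function.Surjective F := by
    rw [← MonoidHom.range_eq_top]
    apply frattini_nongenerating
    have hxF : x ∈ F.range := by
      refine ⟨Multiplicative.ofAdd (((1 : ℕ) : ZMod N), ((0 : ℕ) : ZMod N)), ?_⟩
      show Helper59.zE x N (hexp x) ((1 : ℕ) : ZMod N) * Helper59.zE y N (hexp y) ((0 : ℕ) : ZMod N) = x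
      rw [Helper59.zE_natCast, Helper59.zE_natCast]
      simp
    have hyF : y ∈ F.range := by
      refine ⟨Multiplicative.ofAdd (((0 : ℕ) : ZMod N), ((1 : ℕ) : ZMod N)), ?_⟩
      show Helper59.zE x N (hexp x) ((0 : ℕ) : ZMod N) * Helper59.zE y N (hexp y) ((1 : ℕ) : ZMod N) = y
      rw [Helper59.zE_natCast, Helper59.zE_natCast]
      simp
    have hLK : L ≤ F.range ⊔ frattini P :=
      sup_le le_sup_right ((Subgroup.zpowers_le.2 hxF).trans le_sup_left)
    have hyK : y ∈ F.range ⊔ frattini P := (le_sup_left : F.range ≤ _) hyF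
    exact eq_top_of_chain hP hΦL (lt_of_le_of_ne hLK (fun h => hy (h ▸ hyK))) hcard
  exact ⟨(MulEquiv.ofBijective F ⟨hFinj, hFsurj⟩).symm⟩

/-- Abelian `p`-groups with Frattini quotient of order at most `p ^ 2`. -/
theorem rank2_classify (hP : IsPGroup p P) (hrk : (frattini P).index ≤ p ^ 2) :
    HasFlag2 p P ∨ ((∀ x : P, x ^ p = 1) ∧ Nat.card P = p ^ 2) ∨
      (∃ a : ℕ, Nonempty (P ≃* Multiplicative (ZMod (p ^ a) × ZMod (p ^ a))) ∧
        (∀ x : P, x ^ p = 1 → x ∈ frattini P) ∧ Nat.card P = p ^ 2 * Nat.card (frattini P)) := by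
  have hp1 := hp.out.one_lt
  have hΦpos : 0 < Nat.card (frattini P) := Nat.card_pos
  obtain ⟨k, hk⟩ := hP.index (frattini P)
  have hmul := Subgroup.card_mul_index (frattini P)
  rw [hk] at hrk hmul
  have hk2 : k ≤ 2 := (Nat.pow_le_pow_iff_right hp1).1 hrk
  by_cases hk1 : k ≤ 1
  · left
    refine ⟨⊤, inferInstance, le_top, ?_, ?_⟩
    · rw [Subgroup.card_top, ← hmul, mul_comm]
      apply Nat.mul_le_mul_right
      calc p ^ k ≤ p ^ 1 := Nat.pow_le_pow_right hp.out.pos hk1
        _ = p := pow_one p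
    · rw [Subgroup.card_top]
      exact Nat.le_mul_of_pos_left _ hp.out.pos
  have hk' : k = 2 := by omega
  subst hk'
  have hcard : Nat.card P = p ^ 2 * Nat.card (frattini P) := by rw [← hmul, mul_comm]
  have hex : ∃ a : ℕ, ∀ x : P, x ^ (p ^ a) = 1 := by
    obtain ⟨n, hn⟩ := hP.exists_card_eq
    exact ⟨n, fun x => by rw [← hn]; exact pow_card_eq_one'⟩
  classical
  set a := Nat.find hex with ha
  have haspec : ∀ x : P, x ^ (p ^ a) = 1 := Nat.find_spec hex
  have ha0 : a ≠ 0 := by
    intro h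
    rw [h] at haspec
    have h1 : Nat.card P = 1 := by
      rw [Nat.card_eq_one_iff_unique]
      exact ⟨⟨fun x y => by
        have hx := haspec x
        have hy := haspec y
        simp only [pow_zero, pow_one] at hx hy
        rw [hx, hy]⟩, ⟨1⟩⟩
    have h2 : 1 < p ^ 2 := Nat.one_lt_pow (by norm_num) hp1
    rw [h1] at hcard
    nlinarith
  obtain ⟨b, hb⟩ : ∃ b, a = b + 1 := ⟨a - 1, by omega⟩
  rw [hb] at haspec
  set M : Subgroup P := (powMonoidHom (p ^ b) : P →* P).ker with hM
  have hmemM : ∀ x : P, x ∈ M ↔ x ^ (p ^ b) = 1 := fun x => Iff.rfl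
  have hMtop : M ≠ ⊤ := by
    intro h
    have h1 : ∀ x : P, x ^ (p ^ b) = 1 := fun x => (hmemM x).1 (h ▸ Subgroup.mem_top x)
    exact Nat.find_min hex (m := b) (by omega) h1
  have hΦM : frattini P ≤ M := by
    rw [frattini_eq_range hP]
    rintro _ ⟨y, rfl⟩
    rw [hmemM]
    show (y ^ p) ^ (p ^ b) = 1
    rw [← pow_mul, ← pow_succ']
    exact haspec y
  have hMchar : M.Characteristic := by
    rw [Subgroup.characteristic_iff_le_comap]
    intro α x hx
    show (α x) ^ (p ^ b) = 1
    rw [← map_pow, (hmemM x).1 hx, map_one]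
  by_cases hMΦ : M = frattini P
  · right
    rcases Nat.eq_zero_or_pos b with hb0 | hb0
    · left
      subst hb0
      have hbot : frattini P = ⊥ := by
        rw [← hMΦ, eq_bot_iff]
        intro x hx
        have := (hmemM x).1 hx
        simpa using this
      refine ⟨fun x => ?_, ?_⟩
      · have := haspec x
        simpa using this
      · rw [hcard, hbot, Subgroup.card_bot, mul_one]
    · right
      refine ⟨b + 1, homocyclic_iso hP hcard b haspec (fun x hx => hMΦ ▸ (hmemM x).2 hx), ?_, hcard⟩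
      intro x hx
      rw [← hMΦ, hmemM]
      obtain ⟨c, rfl⟩ : ∃ c, b = c + 1 := ⟨b - 1, by omega⟩
      rw [pow_succ', pow_mul, hx, one_pow]
  · left
    have hlt : frattini P < M := lt_of_le_of_ne hΦM (Ne.symm hMΦ)
    obtain ⟨f, hf⟩ := (hP.to_subgroup (frattini P)).exists_card_eq
    obtain ⟨m, hm⟩ := (hP.to_subgroup M).exists_card_eq
    have h1 : Nat.card (frattini P) < Nat.card M := Helper86.card_lt_of_lt hlt
    have h2 : Nat.card M < Nat.card P := by
      have := Helper86.card_lt_of_lt (lt_top_iff_ne_top.2 hMtop)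
      rwa [Subgroup.card_top] at this
    rw [hcard, hf, hm, ← pow_add] at h2
    rw [hf, hm] at h1
    have h3 := (Nat.pow_lt_pow_iff_right hp1).1 h1
    have h4 := (Nat.pow_lt_pow_iff_right hp1).1 h2
    have h5 : m = f + 1 := by omega
    refine ⟨M, hMchar, hΦM, ?_, ?_⟩
    · rw [hm, hf, h5, pow_succ']
    · rw [hcard, hm, hf, h5]
      exact le_of_eq (by ring)

end Cfsg.Agent.Lib.Helper16.Ess
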