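import Cfsg.Agent.Lib.Helper16.Ess.Rank2
import Cfsg.Agent.Lib.Helper16.Ess.Binom
import Cfsg.Agent.Lib.Helper77.CoprimeAut

set_option autoImplicit false
set_option linter.unusedSectionVars false

/-! Homocyclic abelian groups of rank two are not essential for `p ≥ 5`. -/

namespace Cfsg.Agent.Lib.Helper16.Ess

open Cfsg Cfsg.FusionSystem Cfsg.Agent.Lib Cfsg.Agent.Lib.Helper86 Cfsg.Agent.Lib.Helper86.Oliver

/-- A `p`-automorphism has a nontrivial fixed point on the Frattini quotient. -/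
theorem exists_fixed_mod_frattini {P : Type*} [Group P] [Finite P] {p : ℕ} [hp : Fact p.Prime]
    (hdvd : p ∣ (frattini P).index) (δ : MulAut P) {k : ℕ} (hδ : δ ^ (p ^ k) = 1) :
    ∃ z : P, z ∉ frattini P ∧ z⁻¹ * δ z ∈ frattini P := by
  set R : Subgroup (MulAut P) := Subgroup.zpowers δ with hRdef
  have hR : IsPGroup p R := by
    obtain ⟨j, -, hj⟩ := (Nat.dvd_prime_pow hp.out).1 (orderOf_dvd_of_pow_eq_one hδ)
    apply IsPGroup.of_card (n := j)
    rw [hRdef, Nat.card_zpowers, hj]
  have := Helper77.frattini_quotientAction R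
  have h1 : ((1 : P) : P ⧸ frattini P) ∈ MulAction.fixedPoints R (P ⧸ frattini P) := by
    intro β
    rw [MulAction.Quotient.smul_mk]
    congr 1
    exact map_one (β : MulAut P)
  obtain ⟨b, hb, hne⟩ :=
    hR.exists_fixed_point_of_prime_dvd_card_of_fixed_point (P ⧸ frattini P) hdvd h1
  induction b using QuotientGroup.induction_on with
  | H z =>
  refine ⟨z, ?_, ?_⟩
  · intro hz
    apply hne
    exact ((QuotientGroup.eq_one_iff z).2 hz).symm
  · have h2 := hb ⟨δ, Subgroup.mem_zpowers δ⟩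
    rw [MulAction.Quotient.smul_mk] at h2
    exact QuotientGroup.eq.1 h2.symm

/-- Abstract form of the binomial argument. -/
theorem stab_of_quadratic {P : Type*} [CommGroup P] [Finite P] {p : ℕ} [hp : Fact p.Prime]
    (hP : IsPGroup p P) (h5 : 5 ≤ p) (δ : MulAut P) (hδ : ∀ x, (δ : P → P)^[p] x = x)
    (h2 : ∀ x, (x⁻¹ * δ x)⁻¹ * δ (x⁻¹ * δ x) ∈ frattini P)
    (hΩ : ∀ x : P, x ^ p = 1 → x ∈ frattini P) : ∀ x, x⁻¹ * δ x ∈ frattini P := by
  have hr := frattini_eq_range hP
  have key := binom_mul hp.out h5 (δ : P ≃* P).toMonoidHom hδ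
    (by
      intro x
      have h := h2 x
      rw [hr] at h
      obtain ⟨y, hy⟩ := h
      refine ⟨y, ?_⟩
      have e : y ^ p = (x⁻¹ * δ x)⁻¹ * δ (x⁻¹ * δ x) := hy
      rw [e]
      show δ (δ x / x) / (δ x / x) = _
      rw [div_eq_mul_inv, div_eq_mul_inv, mul_comm (δ x) x⁻¹, mul_comm])
    (by
      intro x hx
      have h := hΩ x hx
      rw [hr] at h
      obtain ⟨y, hy⟩ := h
      exact ⟨y, hy.symm⟩)
  intro x
  obtain ⟨y, hy⟩ := key x
  rw [hr]
  refine ⟨y, ?_⟩
  show y ^ p = _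
  rw [← hy]
  show δ x / x = _
  rw [div_eq_mul_inv, mul_comm]

theorem no_homocyclic {Ω : Type*} [Group Ω] {S : Subgroup Ω} [Finite S] {p : ℕ} [hp : Fact p.Prime]
    (hS : IsPGroup p S) (F : FusionSystem S) (hF : F.IsSaturated p) {H : Subgroup Ω}
    (hH : F.IsEssential p H) (hab : ∀ a b : H, a * b = b * a) (h5 : 5 ≤ p)
    (hΩ : ∀ x : H, x ^ p = 1 → x ∈ frattini H)
    (hcard : Nat.card H = p ^ 2 * Nat.card (frattini H)) : False := by
  have hHS : H ≤ S := hH.1.1
  have hfin : Finite H := Helper86.finite_of_le hHS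
  have hHp : IsPGroup p H := hS.to_le hHS
  obtain ⟨g0, hg0S, hg0N, hg0H⟩ := exists_normalizer_growth hS (essential_lt hS hF hH)
  obtain ⟨g, hgS, hgN, hgH, hgp⟩ :
      ∃ g, g ∈ S ∧ g ∈ Subgroup.normalizer (H : Set Ω) ∧ g ∉ H ∧ g ^ p ∈ H := by
    classical
    have hex : ∃ k : ℕ, g0 ^ (p ^ k) ∈ H := by
      obtain ⟨k, hk⟩ := hS ⟨g0, hg0S⟩
      refine ⟨k, ?_⟩
      have : g0 ^ (p ^ k) = 1 := by simpa using congrArg Subtype.val hk
      rw [this]; exact H.one_mem
    have hk0 : Nat.find hex ≠ 0 := by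
      intro h0
      have := Nat.find_spec hex
      rw [h0] at this
      simp at this
      exact hg0H this
    obtain ⟨k, hk⟩ := Nat.exists_eq_succ_of_ne_zero hk0
    refine ⟨g0 ^ (p ^ k), S.pow_mem hg0S _, Subgroup.pow_mem _ hg0N _, ?_, ?_⟩
    · exact Nat.find_min hex (by omega)
    · have := Nat.find_spec hex
      rw [hk, Nat.succ_eq_add_one, pow_succ, pow_mul] at this
      exact this
  set δ := conjAut H g hgN with hδdef
  have hδapp : ∀ x : H, ((δ x : H) : Ω) = g * x * g⁻¹ := fun x => rfl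
  have hiter : ∀ (n : ℕ) (x : H), (((δ : H → H)^[n] x : H) : Ω) = g ^ n * x * (g ^ n)⁻¹ := by
    intro n
    induction n with
    | zero => intro x; simp
    | succ n ih =>
      intro x
      rw [Function.iterate_succ_apply', hδapp, ih, pow_succ']
      group
  have hδp : ∀ x : H, (δ : H → H)^[p] x = x := by
    intro x
    apply Subtype.ext
    rw [hiter]
    have h := congrArg Subtype.val (hab ⟨g ^ p, hgp⟩ x)
    have h' : g ^ p * (x : Ω) = x * g ^ p := h
    rw [h']; group
  have hpow : ∀ (n : ℕ) (x : H), (δ ^ n) x = (δ : H → H)^[n] x := by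
    intro n
    induction n with
    | zero => intro x; rfl
    | succ n ih =>
      intro x
      rw [Function.iterate_succ_apply', ← ih, pow_succ']; rfl
  have hδ1 : δ ^ (p ^ 1) = 1 := by
    ext x
    rw [pow_one, hpow, hδp]; rfl
  have hidx : (frattini H).index = p ^ 2 := by
    have h := (frattini H).card_mul_index
    rw [hcard] at h
    have hpos : 0 < Nat.card (frattini H) := Nat.card_pos
    nlinarith [Nat.eq_of_mul_eq_mul_left hpos (h.trans (mul_comm _ _))]
  obtain ⟨z, hzΦ, hzδ⟩ := exists_fixed_mod_frattini (hidx ▸ Dvd.intro_left p (by ring)) δ hδ1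
  have hΦinv : ∀ x ∈ frattini H, δ x ∈ frattini H := fun x hx => Helper77.aut_mem_frattini δ hx
  let L : Subgroup H :=
    { carrier := {x | x⁻¹ * δ x ∈ frattini H}
      one_mem' := by
        show (1 : H)⁻¹ * δ 1 ∈ frattini H
        rw [map_one, inv_one, one_mul]
        exact Subgroup.one_mem _
      mul_mem' := by
        intro a b ha hb
        have e : (a * b)⁻¹ * δ (a * b) = (a⁻¹ * δ a) * (b⁻¹ * δ b) := by
          rw [map_mul, mul_inv_rev, hab b⁻¹ a⁻¹, mul_assoc, mul_assoc, ← mul_assoc b⁻¹,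
            hab b⁻¹ (δ a), mul_assoc]
        show (a * b)⁻¹ * δ (a * b) ∈ frattini H
        rw [e]
        exact (frattini H).mul_mem ha hb
      inv_mem' := by
        intro a ha
        have e : (a⁻¹)⁻¹ * δ a⁻¹ = (a⁻¹ * δ a)⁻¹ := by
          rw [map_inv, mul_inv_rev, hab]
        show (a⁻¹)⁻¹ * δ a⁻¹ ∈ frattini H
        rw [e]
        exact (frattini H).inv_mem ha }
  have hΦL : frattini H ≤ L := fun x hx =>
    (frattini H).mul_mem ((frattini H).inv_mem hx) (hΦinv x hx)
  have hzL : z ∈ L := hzδ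
  have hlt : frattini H < L := lt_of_le_of_ne hΦL (fun h => hzΦ (h ▸ hzL))
  have hcardL : Nat.card H ≤ p * Nat.card L := by
    obtain ⟨a, ha⟩ := (hHp.to_subgroup (frattini H)).exists_card_eq
    obtain ⟨c, hc⟩ := (hHp.to_subgroup L).exists_card_eq
    have hcl : Nat.card (frattini H) < Nat.card L := Helper86.card_lt_of_lt hlt
    have hac : a < c := by
      rw [ha, hc] at hcl
      exact (Nat.pow_lt_pow_iff_right hp.out.one_lt).1 hcl
    have hle : p * Nat.card (frattini H) ≤ Nat.card L := by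
      rw [ha, hc, ← pow_succ']
      exact Nat.pow_le_pow_right hp.out.pos hac
    rw [hcard, pow_two, mul_assoc]
    exact Nat.mul_le_mul_left p hle
  have hLinv : ∀ x ∈ L, δ x ∈ L := by
    intro x hx
    have h := hΦinv _ hx
    rwa [map_mul, map_inv] at h
  have hLH : L.map H.subtype ≤ H := by
    rintro _ ⟨a, -, rfl⟩
    exact a.2
  have h1 := comm_mem_of_normalizes hS (A := L.map H.subtype) (B := H) hLH hHS
    (by
      rintro b hb _ ⟨a, ha, rfl⟩
      refine ⟨a, ha, ?_⟩
      have h := congrArg Subtype.val (hab ⟨b, hb⟩ a)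
      have h' : b * (a : Ω) = a * b := h
      show (a : Ω) = b * a * b⁻¹
      rw [h']; group)
    (by rw [Subgroup.card_map_of_injective H.subtype_injective]; exact hcardL)
    hgS
    (by
      rintro _ ⟨a, ha, rfl⟩
      exact ⟨δ a, hLinv a ha, rfl⟩)
    (by
      intro b hb
      exact (δ ⟨b, hb⟩).2)
  have hνL : ∀ x : H, x⁻¹ * δ x ∈ L := by
    intro x
    obtain ⟨y, hy, hyx⟩ := h1 x x.2
    have e : x⁻¹ * δ x = y := by
      rw [hab]
      apply Subtype.ext
      exact hyx.symm
    rw [e]; exact hy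
  letI : CommGroup H := { (inferInstance : Group H) with mul_comm := hab }
  have hall := stab_of_quadratic (P := H) hHp h5 δ hδp (fun x => hνL x) hΩ
  apply hgH
  refine mem_of_stabilizes_mod_frattini hS F hF hH 1 (fun i => if i = 0 then frattini H else ⊤)
    (by simp) (by simp) ?_ hgS hgN ?_
  · intro i α _ x hx
    by_cases hi : i = 0
    · simp only [hi, if_true] at hx ⊢
      exact Helper77.aut_mem_frattini α hx
    · simp [hi]
  · intro i hi x _
    have : i = 0 := by omega
    subst this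
    simp only [if_true]
    exact hall x

end Cfsg.Agent.Lib.Helper16.Ess
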